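import Groth.Agent.CurveRR.Deg
import Mathlib

/-!
# Small lemmas for fibrations of surfaces over curves
-/

set_option autoImplicit false
set_option backward.isDefEq.respectTransparency false
set_option backward.isDefEq.respectTransparency.types false

universe u

open CategoryTheory AlgebraicGeometry

namespace Groth.Agent.IsPreconnectedFib

theorem connectedSpace_of_fibres {α β : Type*} [TopologicalSpace α] [TopologicalSpace β] [ConnectedSpace β]
    {f : α → β} (hfib : ∀ y, IsConnected (f ⁻¹' {y})) (hq : Topology.IsQuotientMap f) : ConnectedSpace α := by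
  obtain ⟨b⟩ := (inferInstance : Nonempty β)
  have h := preimage_connectedComponent_connected hfib hq.isCoinducing b
  rw [PreconnectedSpace.connectedComponent_eq_univ, Set.preimage_univ] at h
  exact connectedSpace_iff_univ.mpr h

theorem le_one_of_lt_two {d : WithBot ℕ∞} (h : d < ((2 : ℕ) : WithBot ℕ∞)) : d ≤ ((1 : ℕ) : WithBot ℕ∞) := by
  induction d using WithBot.recBotCoe with
  | bot => exact bot_le
  | coe a =>
    have h' : a < ((1 : ℕ∞) + 1) := by
      have := WithBot.coe_lt_coe.mp h
      rwa [one_add_one_eq_two]
    exact WithBot.coe_le_coe.mpr (by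
      simpa using Order.le_of_lt_succ (a := a) (b := (1 : ℕ∞)) (by simpa [Order.succ_eq_add_one] using h'))

attribute [local instance] CurveRR.secMod in
theorem h0_structure_ne_zero (k : Type u) [Field k] (X : Scheme.{u}) [X.Over (Spec (CommRingCat.of k))]
    [IsProper (X ↘ Spec (CommRingCat.of k))] [Nonempty X] :
    CurveRR.h k (Coh.structureModule X) 0 ≠ 0 := by
  haveI := CurveRR.isNoetherian_of_proper k X
  rw [← CurveRR.finrank_sec (k := k) (Coh.structureModule X)]
  haveI : Module.Finite k (Coh.HH X (Coh.structureModule X) 0) :=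
    CohFinite.finite_proper k X _ (CurveRR.isCoh_of_inv TMul.isInvertible_structureModule) 0
  haveI : Module.Finite k Γ(Coh.structureModule X, ⊤) := Module.Finite.equiv (CurveRR.secH0 (k := k) (Coh.structureModule X)).symm
  haveI : Nonempty (⊤ : X.Opens) := ⟨⟨Classical.arbitrary X, trivial⟩⟩
  haveI : Nontrivial Γ(Coh.structureModule X, ⊤) := inferInstanceAs (Nontrivial Γ(X, ⊤))
  exact Module.finrank_pos.ne'

end Groth.Agent.IsPreconnectedFib
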